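import Groth.Agent.Lib.CohDelta.KBC.Hom
import Groth.Agent.Lib.CohDelta.KS.Cancel
import Groth.Agent.Lib.ArtinFun.HomFinite
import Mathlib.RingTheory.Adjoin.FG
import Mathlib.RingTheory.IntegralClosure.IsIntegralClosure.Basic

/-!
# Isomorphism descends along algebraic field extensions
-/

set_option autoImplicit false
set_option linter.style.haveILetI false
universe u v

open CategoryTheory CategoryTheory.Limits AlgebraicGeometry

noncomputable section

namespace Groth.Agent.Lib.CohDelta.KBC

open W4c1astiltbs12 Groth.Agent.Lib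

variable {k : Type u} [Field k] {X : Scheme.{u}} (p : X ⟶ Spec (CommRingCat.of k))
  (K : Type u) [Field K] [Algebra k K]

attribute [local instance] overK

theorem isCoh_retract [IsLocallyNoetherian X] {A M : X.Modules} (i : A ⟶ M) (r : M ⟶ A)
    (hir : i ≫ r = 𝟙 A) (hM : Coh.IsCoh M) : Coh.IsCoh A := by
  have hK : Coh.IsCoh (kernel (𝟙 M - r ≫ i)) := CohBasics.Closure.isCoh_kernel _ hM hM.1
  refine CohBasics.Closure.isCoh_of_iso ?_ hK
  have hi : i ≫ (𝟙 M - r ≫ i) = 0 := by
    rw [Preadditive.comp_sub, Category.comp_id, ← Category.assoc, hir, Category.id_comp, sub_self]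
  exact
    { hom := kernel.ι _ ≫ r
      inv := kernel.lift _ i hi
      hom_inv_id := by
        rw [← cancel_mono (kernel.ι (𝟙 M - r ≫ i)), Category.assoc, kernel.lift_ι, Category.id_comp]
        have := kernel.condition (𝟙 M - r ≫ i)
        rw [Preadditive.comp_sub, Category.comp_id, sub_eq_zero] at this
        rw [Category.assoc]
        exact this.symm
      inv_hom_id := by rw [← Category.assoc, kernel.lift_ι, hir] }

/-- Coherent modules on a proper scheme over a field decompose. -/
theorem exists_decomp [IsProper p] (F : X.Modules) (hF : Coh.IsCoh F) :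
    ∃ l : List X.Modules, (∀ S ∈ l, KS.Good S) ∧ Nonempty (F ≅ KS.bsum l) := by
  letI : X.Over (Spec (CommRingCat.of k)) := ⟨p⟩
  haveI : IsProper (X ↘ Spec (CommRingCat.of k)) := ‹IsProper p›
  haveI : IsLocallyNoetherian X := LocallyOfFiniteType.isLocallyNoetherian p
  exact KS.exists_decomposition (k := k) (C := X.Modules) Coh.IsCoh
    (fun M hM => ArtinFun.HomFinite.finite_hom hM hM)
    (fun M A B hM e => isCoh_retract (biprod.inl ≫ e.inv) (e.hom ≫ biprod.fst) (by simp) hM) F hF

instance additive_pullback {Y : Scheme.{u}} (f : Y ⟶ X) : (Scheme.Modules.pullback f).Additive :=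
  (Scheme.Modules.pullbackPushforwardAdjunction f).left_adjoint_additive

/-- Re-expanding coefficients in a basis of a finite subalgebra. -/
theorem exists_coords [X.Over (Spec (CommRingCat.of k))] (hp : X ↘ Spec (CommRingCat.of k) = p)
    (L : Subalgebra k K) {κ : Type v} [Fintype κ] (e : Module.Basis κ k L) {F G : X.Modules}
    {ι : Type u} (T : Finset ι) (a : ι → K) (ha : ∀ i ∈ T, a i ∈ L) (h : ι → (F ⟶ G)) :
    ∃ u : κ → (F ⟶ G), ∑ i ∈ T, a i • pbMap p K (h i) = ∑ l, (e l : K) • pbMap p K (u l) := by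
  classical
  let c : ι → κ → k := fun i l => if hi : i ∈ T then e.repr ⟨a i, ha i hi⟩ l else 0
  refine ⟨fun l => ∑ i ∈ T, c i l • h i, ?_⟩
  simp only [pbMap, Functor.map_sum, Finset.smul_sum]
  rw [Finset.sum_comm]
  refine Finset.sum_congr rfl fun i hi => ?_
  have h1 : a i = ∑ l, (e l : K) * algebraMap k K (c i l) := by
    have := congrArg Subtype.val (e.sum_repr ⟨a i, ha i hi⟩)
    simp only [AddSubmonoidClass.coe_finsetSum, SetLike.val_smul] at this
    refine this.symm.trans (Finset.sum_congr rfl fun l _ => ?_)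
    rw [Algebra.smul_def, mul_comm]
    exact congrArg (fun z => (e l : K) * algebraMap k K z) (by simp [c, hi])
  rw [h1, Finset.sum_smul]
  refine Finset.sum_congr rfl fun l _ => ?_
  have h2 : (Scheme.Modules.pullback (proj p K)).map (c i l • h i) =
      algebraMap k K (c i l) • pbMap p K (h i) := pbMap_smul p K hp _ _
  rw [h2, smul_smul]

/-- Matrices of morphisms give morphisms of powers. -/
theorem nonempty_pow_iso {C : Type*} [Category C] [Preadditive C] [HasFiniteCoproducts C]
    {d : ℕ} {F G : C} (U : Fin d → Fin d → (F ⟶ G)) (V : Fin d → Fin d → (G ⟶ F))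
    (hUV : ∀ j l, ∑ i, U j i ≫ V i l = if j = l then 𝟙 F else 0)
    (hVU : ∀ j l, ∑ i, V j i ≫ U i l = if j = l then 𝟙 G else 0) :
    Nonempty ((∐ fun _ : Fin d => F) ≅ ∐ fun _ : Fin d => G) := by
  classical
  refine ⟨⟨Sigma.desc fun j => ∑ i, U j i ≫ Sigma.ι (fun _ : Fin d => G) i,
    Sigma.desc fun j => ∑ i, V j i ≫ Sigma.ι (fun _ : Fin d => F) i,
    Sigma.hom_ext _ _ fun j => ?_, Sigma.hom_ext _ _ fun j => ?_⟩⟩
  · simp only [Sigma.ι_desc_assoc, Preadditive.sum_comp, Category.assoc, Sigma.ι_desc,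
      Preadditive.comp_sum, Category.comp_id]
    rw [Finset.sum_comm]
    simp only [← Category.assoc, ← Preadditive.sum_comp, hUV]
    rw [Finset.sum_eq_single j (fun l _ hl => by rw [if_neg (Ne.symm hl), Limits.zero_comp])
      (fun h => absurd (Finset.mem_univ j) h), if_pos rfl, Category.id_comp]
  · simp only [Sigma.ι_desc_assoc, Preadditive.sum_comp, Category.assoc, Sigma.ι_desc,
      Preadditive.comp_sum, Category.comp_id]
    rw [Finset.sum_comm]
    simp only [← Category.assoc, ← Preadditive.sum_comp, hVU]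
    rw [Finset.sum_eq_single j (fun l _ hl => by rw [if_neg (Ne.symm hl), Limits.zero_comp])
      (fun h => absurd (Finset.mem_univ j) h), if_pos rfl, Category.id_comp]

/-- Composition of two expanded morphisms. -/
theorem matrix_comp {d : ℕ} {e : Fin d → K} (he : LinearIndependent k e) {F G : X.Modules}
    [F.IsQuasicoherent]
    {f : bcMod p K F ⟶ bcMod p K G} {g : bcMod p K G ⟶ bcMod p K F}
    (hfg : f ≫ g = 𝟙 _) (U : Fin d → Fin d → (F ⟶ G)) (V : Fin d → Fin d → (G ⟶ F))
    (hU : ∀ j, e j • f = ∑ i, e i • pbMap p K (U j i))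
    (hV : ∀ i, e i • g = ∑ l, e l • pbMap p K (V i l)) (j l : Fin d) :
    ∑ i, U j i ≫ V i l = if j = l then 𝟙 F else 0 := by
  classical
  have h1 : ∑ l, e l • pbMap p K (∑ i, U j i ≫ V i l) =
      ∑ l, e l • pbMap p K (if j = l then 𝟙 F else 0) := by
    have hr : ∑ l, e l • pbMap p K (if j = l then 𝟙 F else 0) = e j • 𝟙 (bcMod p K F) := by
      rw [Finset.sum_eq_single j (fun l _ hl => by
        rw [if_neg (Ne.symm hl)]; simp [pbMap]) (fun h => absurd (Finset.mem_univ j) h), if_pos rfl]
      simp [pbMap]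
    rw [hr, ← hfg, ← Linear.smul_comp, hU, Preadditive.sum_comp]
    simp only [pbMap, Functor.map_sum, Functor.map_comp, Finset.smul_sum]
    rw [Finset.sum_comm]
    refine Finset.sum_congr rfl fun i _ => ?_
    rw [Linear.smul_comp, ← Linear.comp_smul, hV, Preadditive.comp_sum]
    refine Finset.sum_congr rfl fun l _ => ?_
    rw [Linear.comp_smul]
  refine sub_eq_zero.mp (eq_zero_of_sum_eq_zero' p K he
    (fun l => (∑ i, U j i ≫ V i l) - if j = l then 𝟙 F else 0) ?_ l)
  simp only [pbMap, Functor.map_sub, smul_sub, Finset.sum_sub_distrib]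
  exact sub_eq_zero.mpr h1

/-- Coherent modules isomorphic after an algebraic extension are isomorphic. -/
theorem iso_of_bc [IsProper p] [Algebra.IsAlgebraic k K] {F G : X.Modules} (hF : Coh.IsCoh F)
    (hG : Coh.IsCoh G) (e : bcMod p K F ≅ bcMod p K G) : Nonempty (F ≅ G) := by
  classical
  letI : X.Over (Spec (CommRingCat.of k)) := ⟨p⟩
  have hp : X ↘ Spec (CommRingCat.of k) = p := rfl
  haveI : CompactSpace X := QuasiCompact.compactSpace_of_compactSpace p
  haveI := hF.1
  haveI := hG.1
  let b := Module.Basis.ofVectorSpace k K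
  obtain ⟨T, h, hf⟩ := exists_sum p K b hF e.hom
  obtain ⟨T', h', hg⟩ := exists_sum p K b hG e.inv
  let L : Subalgebra k K := Algebra.adjoin k (↑((T ∪ T').image b) : Set K)
  haveI : Module.Finite k L := Module.Finite.iff_fg.mpr
    (fg_adjoin_of_finite (Finset.finite_toSet _) fun x _ => Algebra.IsIntegral.isIntegral x)
  let E := Module.finBasis k L
  have hd : 0 < Module.finrank k L := Module.finrank_pos
  have hE : LinearIndependent k (fun l => (E l : K)) :=
    E.linearIndependent.map' L.toSubmodule.subtype (Submodule.ker_subtype _)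
  have hmem : ∀ i ∈ T ∪ T', b i ∈ L := fun i hi =>
    Algebra.subset_adjoin (Finset.mem_coe.mpr (Finset.mem_image_of_mem b hi))
  have hexU : ∀ j, ∃ u : Fin (Module.finrank k L) → (F ⟶ G),
      (E j : K) • e.hom = ∑ i, (E i : K) • pbMap p K (u i) := fun j => by
    rw [hf, Finset.smul_sum]
    simp only [smul_smul]
    exact exists_coords p K hp L E T _ (fun i hi => L.mul_mem (E j).2
      (hmem i (Finset.mem_union_left _ hi))) h
  have hexV : ∀ j, ∃ u : Fin (Module.finrank k L) → (G ⟶ F),
      (E j : K) • e.inv = ∑ i, (E i : K) • pbMap p K (u i) := fun j => by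
    rw [hg, Finset.smul_sum]
    simp only [smul_smul]
    exact exists_coords p K hp L E T' _ (fun i hi => L.mul_mem (E j).2
      (hmem i (Finset.mem_union_right _ hi))) h'
  choose U hU using hexU
  choose V hV using hexV
  obtain ⟨φ⟩ := nonempty_pow_iso U V
    (fun j l => matrix_comp p K hE e.hom_inv_id U V hU hV j l)
    (fun j l => matrix_comp p K hE e.inv_hom_id V U hV hU j l)
  obtain ⟨l, hl, ⟨eF⟩⟩ := exists_decomp p F hF
  obtain ⟨m, hm, ⟨eG⟩⟩ := exists_decomp p G hG
  exact KS.iso_of_pow_iso hl hm eF eG hd φ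

end Groth.Agent.Lib.CohDelta.KBC
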