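import Groth.Agent.Lib.CohDelta.KBC.Sections
import Groth.Agent.Lib.StalkLoc.Basic
import Groth.Agent.Lib.Modules.Support
import Groth.Agent.Lib.CohBasics.Closure
import Mathlib.LinearAlgebra.Basis.VectorSpace

/-!
# Base change along a field extension: morphisms

`Hom(π^*F, π^*G) = K ⊗ Hom(F, G)` for `F` coherent on a compact `X`, in coordinates of a basis.
-/

set_option autoImplicit false
set_option linter.style.haveILetI false
universe u v

open CategoryTheory CategoryTheory.Limits AlgebraicGeometry Opposite TopologicalSpace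

noncomputable section

namespace Groth.Agent.Lib.CohDelta.KBC

open W4c1astiltbs12 Groth.Agent.Lib
open Groth.Agent.Lib.TensorMod.Dual (rs rs_rs rs_smul)

variable {k : Type u} [Field k] {X : Scheme.{u}} (p : X ⟶ Spec (CommRingCat.of k))
  (K : Type u) [CommRing K] [Algebra k K]

/-- `X_K` over `K`. -/
local instance overK : (W4bk4gw11416.baseChange p K).Over (Spec (CommRingCat.of K)) :=
  ⟨W4bk4gw11416.baseChangeTo p K⟩

theorem smul_app {M N : (W4bk4gw11416.baseChange p K).Modules} (a : K) (f : M ⟶ N) (U : X.Opens)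
    (x : Γ(M, proj p K ⁻¹ᵁ U)) :
    (a • f).app (proj p K ⁻¹ᵁ U) x = cU p K U a • f.app (proj p K ⁻¹ᵁ U) x :=
  KLin.smul_app_apply a f (proj p K ⁻¹ᵁ U) x

/-- The pullback of morphisms. -/
abbrev pbMap {F G : X.Modules} (h : F ⟶ G) : bcMod p K F ⟶ bcMod p K G :=
  (Scheme.Modules.pullback (proj p K)).map h

variable {F G H : X.Modules}

/-- Morphisms out of `π^*F` agree when they agree on the pullbacks of sections over affine opens. -/
theorem ext_η {N : (W4bk4gw11416.baseChange p K).Modules} {φ ψ : bcMod p K F ⟶ N}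
    (h : ∀ (U : X.affineOpens) (m : Γ(F, U.1)),
      φ.app (proj p K ⁻¹ᵁ U.1) (η p K F U.1 m) = ψ.app (proj p K ⁻¹ᵁ U.1) (η p K F U.1 m)) :
    φ = ψ := by
  let a := Scheme.Modules.pullbackPushforwardAdjunction (proj p K)
  refine (a.homEquiv F N).injective ?_
  rw [Adjunction.homEquiv_unit, Adjunction.homEquiv_unit]
  exact Modules.AffineHom.hom_ext_affine fun U m => h U m

/-- `π^*` is linear over `k`. -/
theorem pbMap_smul [X.Over (Spec (CommRingCat.of k))] (hp : X ↘ Spec (CommRingCat.of k) = p)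
    (a : k) (h : F ⟶ G) : pbMap p K (a • h) = algebraMap k K a • pbMap p K h := by
  refine ext_η p K fun U m => ?_
  rw [η_natural, smul_app, η_natural, KLin.smul_app_apply, η_smul, cU_algebraMap, c₀]
  rw [hp]

variable {ι : Type v} (b : Module.Basis ι k K)

/-- The pullbacks with independent coefficients are independent. -/
theorem eq_zero_of_sum_eq_zero [G.IsQuasicoherent] (s : Finset ι) (h : ι → (F ⟶ G))
    (h0 : ∑ i ∈ s, b i • pbMap p K (h i) = 0) : ∀ i ∈ s, h i = 0 := by
  classical
  intro i hi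
  refine Modules.AffineHom.hom_ext_affine fun U m => ?_
  let v : ι →₀ Γ(G, U.1) := Finsupp.onFinset s (fun j => if j ∈ s then (h j).app U.1 m else 0)
    fun j hj => by by_contra hjs; exact hj (if_neg hjs)
  have e : Φ p K b G U.1 v = 0 := by
    rw [Φ, Finsupp.sum_of_support_subset v Finsupp.support_onFinset_subset _
      fun j _ => by rw [map_zero, smul_zero]]
    have h1 := congrArg (fun φ : bcMod p K F ⟶ bcMod p K G =>
      φ.app (proj p K ⁻¹ᵁ U.1) (η p K F U.1 m)) h0
    refine Eq.trans ?_ h1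
    show _ = (∑ j ∈ s, b j • pbMap p K (h j)).app (proj p K ⁻¹ᵁ U.1) (η p K F U.1 m)
    let ev : (bcMod p K F ⟶ bcMod p K G) →+ Γ(bcMod p K G, proj p K ⁻¹ᵁ U.1) :=
      AddMonoidHom.mk' (fun φ => φ.app (proj p K ⁻¹ᵁ U.1) (η p K F U.1 m)) fun a a' => rfl
    refine Eq.trans ?_ (map_sum ev (fun j => b j • pbMap p K (h j)) s).symm
    refine Finset.sum_congr rfl fun j hj => ?_
    show _ = (b j • pbMap p K (h j)).app (proj p K ⁻¹ᵁ U.1) (η p K F U.1 m)
    rw [smul_app, η_natural]
    congr 2
    exact (Finsupp.onFinset_apply ..).trans (if_pos hj)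
  have hv : v = 0 := (Φ_bijective p K b G U.2).1 (e.trans (by simp [Φ]))
  have := DFunLike.congr_fun hv i
  rw [show v i = (h i).app U.1 m from (Finsupp.onFinset_apply ..).trans (if_pos hi)] at this
  exact this

/-- Every morphism between the pullbacks is a combination of pullbacks. -/
theorem exists_sum [CompactSpace X] (hF : Coh.IsCoh F) [G.IsQuasicoherent]
    (f : bcMod p K F ⟶ bcMod p K G) :
    ∃ (T : Finset ι) (h : ι → (F ⟶ G)), f = ∑ i ∈ T, b i • pbMap p K (h i) := by
  classical
  haveI := hF.1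
  let C : ∀ U : X.affineOpens, Γ(bcMod p K G, proj p K ⁻¹ᵁ U.1) → (ι →₀ Γ(G, U.1)) := fun U =>
    (Equiv.ofBijective _ (Φ_bijective p K b G U.2)).symm
  have hC : ∀ (U : X.affineOpens) x, Φ p K b G U.1 (C U x) = x := fun U x =>
    Equiv.ofBijective_apply_symm_apply _ (Φ_bijective p K b G U.2) x
  have hinj : ∀ U : X.affineOpens, Function.Injective (Φ p K b G U.1) := fun U =>
    (Φ_bijective p K b G U.2).1
  let L : ∀ (U : X.affineOpens), Γ(F, U.1) →ₗ[Γ(X, U.1)] (ι →₀ Γ(G, U.1)) := fun U =>
    { toFun := fun m => C U (f.app (proj p K ⁻¹ᵁ U.1) (η p K F U.1 m))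
      map_add' := fun m m' => hinj U (by rw [Φ_add, hC, hC, hC, map_add, map_add])
      map_smul' := fun r m => hinj U (by
        rw [RingHom.id_apply, Φ_smul, hC, hC, η_smul, Scheme.Modules.Hom.app_smul]) }
  have hLn : ∀ (i : ι) (U V : X.affineOpens) (h : V.1 ≤ U.1) (m : Γ(F, U.1)),
      rs G h (L U m i) = L V (rs F h m) i := fun i U V h m => by
    have e : (L U m).mapRange (rs G h) (Modules.TensorSec.rs_zero G h) = L V (rs F h m) := by
      refine hinj V ?_
      rw [← Φ_res p K b G h]
      show rs (bcMod p K G) _ (Φ p K b G U.1 (C U _)) = Φ p K b G V.1 (C V _)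
      rw [hC, hC]
      refine (Modules.TensorSec.app_rs f _ _).symm.trans ?_
      rw [η_res]
    exact DFunLike.congr_fun e i
  have hi : ∀ i : ι, ∃ hh : F ⟶ G, ∀ (U : X.affineOpens) (m : Γ(F, U.1)), hh.app U.1 m = L U m i :=
    fun i => Modules.AffineHom.exists_hom_of_affine
      (fun U => (Finsupp.lapply i).comp (L U)) fun U V h m => hLn i U V h m
  choose h hh using hi
  obtain ⟨S, hS⟩ := CompactSpace.elim_nhds_subcover
    (fun x : X => (((Modules.AffineHom.exists_affine (show x ∈ (⊤ : X.Opens) from trivial)).choose).1 : Set X))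
    fun x => ((Modules.AffineHom.exists_affine (show x ∈ (⊤ : X.Opens) from trivial)).choose).1.isOpen.mem_nhds
      (Modules.AffineHom.exists_affine (show x ∈ (⊤ : X.Opens) from trivial)).choose_spec.2
  let W : X → X.affineOpens := fun x =>
    (Modules.AffineHom.exists_affine (show x ∈ (⊤ : X.Opens) from trivial)).choose
  have hgen : ∀ U : X.affineOpens, ∃ T : Finset ι, ∀ m : Γ(F, U.1), (L U m).support ⊆ T := fun U => by
    obtain ⟨g, hg⟩ := (CohBasics.Closure.finite_sections hF U.2).fg_top
    refine ⟨g.biUnion fun m => (L U m).support, fun m => ?_⟩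
    have : m ∈ Submodule.span Γ(X, U.1) (g : Set Γ(F, U.1)) := hg ▸ trivial
    induction this using Submodule.span_induction with
    | mem x hx => exact Finset.subset_biUnion_of_mem (fun m => (L U m).support) hx
    | zero => simp
    | add x y _ _ hx hy => rw [map_add]; exact Finsupp.support_add.trans (Finset.union_subset hx hy)
    | smul r x _ hx => rw [map_smul]; exact Finsupp.support_smul.trans hx
  choose T hT using hgen
  let T₀ : Finset ι := S.biUnion fun x => T (W x)
  have hzero : ∀ i, i ∉ T₀ → h i = 0 := fun i hiT => by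
    refine Modules.AffineHom.hom_ext_affine fun V m => ?_
    refine (Modules.Support.eq_zero_of_germ_eq_zero _ fun x hx _ => ?_).trans rfl
    have hx' := hS.ge (Set.mem_univ x)
    simp only [Set.mem_iUnion] at hx'
    obtain ⟨y, hy, hxy⟩ := hx'
    rw [← Modules.StalkModule.stalkMapₗ_germ]
    obtain ⟨g, t, hg, e⟩ := StalkLoc.Basic.exists_smul_eq_germ (W y).2 hxy (F.presheaf.germ V.1 x hx m)
    have e2 := congrArg (Modules.StalkModule.stalkMapₗ (h i) x) e
    rw [map_smul, Modules.StalkModule.stalkMapₗ_germ (h i) hxy t, hh i (W y) t,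
      show L (W y) t i = 0 from Finsupp.notMem_support_iff.mp fun hmem =>
        hiT (Finset.mem_biUnion.mpr ⟨y, hy, hT (W y) t hmem⟩), map_zero] at e2
    exact (((X.mem_basicOpen g x hxy).mp hg).smul_eq_zero).mp e2
  refine ⟨T₀, h, ext_η p K fun U m => ?_⟩
  let ev : (bcMod p K F ⟶ bcMod p K G) →+ Γ(bcMod p K G, proj p K ⁻¹ᵁ U.1) :=
    AddMonoidHom.mk' (fun φ => φ.app (proj p K ⁻¹ᵁ U.1) (η p K F U.1 m)) fun a a' => rfl
  refine Eq.trans ?_ (map_sum ev (fun j => b j • pbMap p K (h j)) T₀).symm
  refine (hC U _).symm.trans ?_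
  show Φ p K b G U.1 (L U m) = _
  rw [Φ, Finsupp.sum_of_support_subset (L U m) (s := T₀) (fun i hmem => by
      by_contra hiT
      refine Finsupp.mem_support_iff.mp hmem ?_
      rw [← hh i U m, hzero i hiT]
      rfl) _ fun j _ => by rw [map_zero, smul_zero]]
  refine Finset.sum_congr rfl fun j _ => ?_
  show _ = (b j • pbMap p K (h j)).app (proj p K ⁻¹ᵁ U.1) (η p K F U.1 m)
  rw [smul_app, η_natural, hh j U m]

/-- Independence for any independent family of scalars. -/
theorem eq_zero_of_sum_eq_zero' [G.IsQuasicoherent] {κ : Type v} [Fintype κ] {e : κ → K}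
    (he : LinearIndependent k e) (h : κ → (F ⟶ G)) (h0 : ∑ i, e i • pbMap p K (h i) = 0) (i : κ) :
    h i = 0 := by
  classical
  let b := Module.Basis.sumExtend he
  have hb : ∀ j, b (Sum.inl j) = e j := fun j => by simp [b, Module.Basis.sumExtend]; rfl
  refine eq_zero_of_sum_eq_zero p K b (Finset.univ.map Function.Embedding.inl)
    (Sum.elim h fun _ => 0) ?_ (Sum.inl i) (Finset.mem_map_of_mem _ (Finset.mem_univ i))
  rw [Finset.sum_map]
  refine (Finset.sum_congr rfl fun j _ => ?_).trans h0
  rw [Function.Embedding.inl_apply, hb, Sum.elim_inl]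

end Groth.Agent.Lib.CohDelta.KBC
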