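import Groth.Agent.Lib.CohDelta.KBC.Powers
import Groth.Agent.Lib.Modules.FreeStalk
import Groth.Agent.Lib.TensorMod.LocFree

/-!
# Isotypical modules
-/

set_option autoImplicit false
set_option linter.style.haveILetI false
universe u v

open CategoryTheory CategoryTheory.Limits AlgebraicGeometry ZeroObject

noncomputable section

namespace Groth.Agent.Lib.CohDelta.KBC

open W4c1astiltbs12 Groth.Agent.Lib

/-- A retract of a finite locally free module is finite locally free. -/
theorem isFinLocFree_retract {X : Scheme.{u}} {G M : X.Modules} (i : G ⟶ M) (r : M ⟶ G)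
    (hir : i ≫ r = 𝟙 G) (hM : FlatMod.IsFinLocFree M) : FlatMod.IsFinLocFree G := fun x => by
  obtain ⟨U, n, hx, ⟨e⟩⟩ := hM x
  let F := Scheme.Modules.restrictFunctor U.ι
  have h := Modules.FreeStalk.isFinLocFree_of_retract (F.map i ≫ e.hom) (e.inv ≫ F.map r) (by
    rw [Category.assoc, Iso.hom_inv_id_assoc, ← Functor.map_comp, hir, CategoryTheory.Functor.map_id])
  obtain ⟨W, m, hxW, ⟨φ⟩⟩ := h ⟨x, hx⟩
  let f : (W : Scheme.{u}) ⟶ X := W.ι ≫ U.ι
  refine ⟨f.opensRange, m, ⟨⟨⟨x, hx⟩, hxW⟩, rfl⟩, ⟨?_⟩⟩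
  exact (Scheme.Modules.restrictFunctorCongr f.isoOpensRange_inv_comp.symm).app G ≪≫
    (Scheme.Modules.restrictFunctorComp f.isoOpensRange.inv f).app G ≪≫
    (Scheme.Modules.restrictFunctor f.isoOpensRange.inv).mapIso
      ((Scheme.Modules.restrictFunctorComp W.ι U.ι).app G ≪≫ φ) ≪≫
    TensorMod.LocFree.restrictFreeModIso _ m

variable {k : Type u} [Field k] {X : Scheme.{u}} (p : X ⟶ Spec (CommRingCat.of k))
  (K : Type u) [Field K] [Algebra k K] [IsProper p] [Algebra.IsAlgebraic k K]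

/-- Isotypical modules are powers of an indecomposable. -/
theorem exists_pow_of_isotypic {E : X.Modules} (hE : Coh.IsCoh E) (hE0 : ¬ IsZero E)
    {L : (W4bk4gw11416.baseChange p K).Modules} (hL : Coh.IsCoh L) (hLi : KS.Ind L) {r : ℕ}
    (e : bcMod p K E ≅ pow L r) :
    ∃ (G : X.Modules) (n : ℕ), Coh.IsCoh G ∧ KS.Ind G ∧ (∃ (i : G ⟶ E) (t : E ⟶ G), i ≫ t = 𝟙 G) ∧
      0 < n ∧ Nonempty (E ≅ pow G n) := by
  classical
  haveI : IsLocallyNoetherian X := LocallyOfFiniteType.isLocallyNoetherian p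
  obtain ⟨l, hl, ⟨eE⟩⟩ := exists_decomp p E hE
  -- members are coherent retracts
  have hret : ∀ S ∈ l, ∃ (i : S ⟶ E) (t : E ⟶ S), i ≫ t = 𝟙 S := fun S hS => by
    obtain ⟨l₁, l₂, rfl⟩ := List.append_of_mem hS
    let φ := eE ≪≫ (KS.bsum_perm (List.perm_middle : (l₁ ++ S :: l₂).Perm (S :: (l₁ ++ l₂)))).some
    let φ' : E ≅ S ⊞ KS.bsum (l₁ ++ l₂) := φ
    exact ⟨biprod.inl ≫ φ'.inv, φ'.hom ≫ biprod.fst, by simp⟩
  have hcoh : ∀ S ∈ l, Coh.IsCoh S := fun S hS => by
    obtain ⟨i, t, h⟩ := hret S hS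
    exact isCoh_retract i t h hE
  -- each member is isotypical
  haveI : IsProper (W4bk4gw11416.baseChangeTo p K) := inferInstance
  have hX : IsLocallyNoetherian (W4bk4gw11416.baseChange p K) :=
    LocallyOfFiniteType.isLocallyNoetherian (W4bk4gw11416.baseChangeTo p K)
  have hLg : KS.Good L := good_of_ind (W4bk4gw11416.baseChangeTo p K) hL hLi
  have hbc : ∀ S ∈ l, ∃ a, Nonempty (bcMod p K S ≅ pow L a) := fun S hS => by
    obtain ⟨i, t, h⟩ := hret S hS
    have h' : ((Scheme.Modules.pullback (proj p K)).map i ≫ e.hom) ≫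
        (e.inv ≫ (Scheme.Modules.pullback (proj p K)).map t) = 𝟙 _ := by
      rw [Category.assoc, Iso.hom_inv_id_assoc, ← Functor.map_comp, h, CategoryTheory.Functor.map_id]
    let i' := (Scheme.Modules.pullback (proj p K)).map i ≫ e.hom
    let t' := e.inv ≫ (Scheme.Modules.pullback (proj p K)).map t
    have hi't' : i' ≫ t' = 𝟙 _ := h'
    -- a complement
    haveI : IsSplitMono i' := ⟨⟨⟨t', hi't'⟩⟩⟩
    let C := cokernel i'
    let ses : ShortComplex (W4bk4gw11416.baseChange p K).Modules :=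
      ShortComplex.mk i' (cokernel.π i') (cokernel.condition i')
    have hs : ses.Splitting := ShortComplex.Splitting.ofExactOfRetraction ses
      (ShortComplex.exact_cokernel i') t' hi't' (inferInstanceAs (Epi (cokernel.π i')))
    let dec : bcMod p K S ⊞ C ≅ pow L r := hs.isoBinaryBiproduct.symm
    have hcohr : Coh.IsCoh (pow L r) := isCoh_pow hL r
    obtain ⟨a, ha, ⟨ea⟩⟩ := exists_decomp (W4bk4gw11416.baseChangeTo p K) (bcMod p K S)
      (isCoh_retract i' t' hi't' hcohr)
    obtain ⟨c, hc, ⟨ec⟩⟩ := exists_decomp (W4bk4gw11416.baseChangeTo p K) C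
      (isCoh_retract (biprod.inr ≫ dec.hom) (dec.inv ≫ biprod.snd) (by simp) hcohr)
    have hp := KS.decomposition_unique (l := a ++ c) (l' := List.ofFn fun _ : Fin r => L)
      (fun T hT => (List.mem_append.mp hT).elim (ha T) (hc T))
      (fun T hT => by obtain ⟨i, rfl⟩ := List.mem_ofFn.1 hT; exact hLg)
      ((KS.bsum_append a c).some.symm ≪≫ (biprod.mapIso ea ec).symm ≪≫ dec ≪≫ (KS.bsum_ofFn _).some.symm)
    have hall : a.map KS.cls = List.replicate a.length (KS.cls L) := by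
      refine List.eq_replicate_iff.mpr ⟨List.length_map _, fun z hz => ?_⟩
      have hz' := hp.subset (by rw [List.map_append]; exact List.mem_append_left _ hz)
      rw [List.ofFn_const, List.map_replicate] at hz'
      exact List.eq_of_mem_replicate hz'
    obtain ⟨eA⟩ := KS.iso_of_cls_perm (l := a) (m := List.ofFn fun _ : Fin a.length => L)
      (by rw [hall, List.ofFn_const, List.map_replicate])
    exact ⟨a.length, ⟨ea ≪≫ eA ≪≫ (KS.bsum_ofFn _).some⟩⟩
  match l, eE with
  | [], eE => exact absurd (IsZero.of_iso (isZero_zero X.Modules) eE) hE0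
  | G :: l, eE =>
    have hG : G ∈ G :: l := List.mem_cons_self
    have hall : (G :: l).map KS.cls = List.replicate (G :: l).length (KS.cls G) := by
      refine List.eq_replicate_iff.mpr ⟨List.length_map _, fun z hz => ?_⟩
      obtain ⟨S, hS, rfl⟩ := List.mem_map.mp hz
      obtain ⟨a, ⟨ea⟩⟩ := hbc S hS
      obtain ⟨b, ⟨eb⟩⟩ := hbc G hG
      exact Quotient.sound (iso_of_isotypic p K (hcoh S hS) (hcoh G hG) (hl S hS).1 (hl G hG).1 ea eb)
    obtain ⟨eA⟩ := KS.iso_of_cls_perm (l := G :: l) (m := List.ofFn fun _ : Fin (G :: l).length => G)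
      (by rw [hall, List.ofFn_const, List.map_replicate])
    exact ⟨G, (G :: l).length, hcoh G hG, (hl G hG).1, hret G hG, Nat.succ_pos _,
      ⟨eE ≪≫ eA ≪≫ (KS.bsum_ofFn _).some⟩⟩

end Groth.Agent.Lib.CohDelta.KBC
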