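import Groth.Agent.Lib.CohDelta.KBC.Descend
import Groth.Agent.Lib.Perfect.Coherent

/-!
# Powers and base change
-/

set_option autoImplicit false
set_option linter.style.haveILetI false
universe u v

open CategoryTheory CategoryTheory.Limits AlgebraicGeometry ZeroObject

noncomputable section

namespace Groth.Agent.Lib.CohDelta.KBC

open W4c1astiltbs12 Groth.Agent.Lib

/-- `(M^r)^s ≅ (M^s)^r`. -/
def powPow {C : Type*} [Category C] [HasFiniteCoproducts C] (M : C) (r s : ℕ) :
    (∐ fun _ : Fin s => ∐ fun _ : Fin r => M) ≅ ∐ fun _ : Fin r => ∐ fun _ : Fin s => M where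
  hom := Sigma.desc fun a => Sigma.desc fun b =>
    Sigma.ι (fun _ : Fin s => M) a ≫ Sigma.ι (fun _ : Fin r => ∐ fun _ : Fin s => M) b
  inv := Sigma.desc fun b => Sigma.desc fun a =>
    Sigma.ι (fun _ : Fin r => M) b ≫ Sigma.ι (fun _ : Fin s => ∐ fun _ : Fin r => M) a
  hom_inv_id := Sigma.hom_ext _ _ fun a => Sigma.hom_ext _ _ fun b => by simp
  inv_hom_id := Sigma.hom_ext _ _ fun b => Sigma.hom_ext _ _ fun a => by simp

variable {k : Type u} [Field k] {X : Scheme.{u}} (p : X ⟶ Spec (CommRingCat.of k))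
  (K : Type u) [Field K] [Algebra k K]

/-- Base change commutes with powers. -/
def bcPow (M : X.Modules) (n : ℕ) : bcMod p K (pow M n) ≅ pow (bcMod p K M) n :=
  haveI := (Scheme.Modules.pullbackPushforwardAdjunction (proj p K)).leftAdjoint_preservesColimits
  PreservesCoproduct.iso (Scheme.Modules.pullback (proj p K)) (fun _ : Fin n => M)

theorem isCoh_zero [IsLocallyNoetherian X] : Coh.IsCoh (0 : X.Modules) := by
  have hO : Coh.IsCoh (FlatMod.freeMod X 0) := Perfect.Coherent.isCoh_freeMod X 0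
  exact CohBasics.Closure.isCoh_of_iso
    (IsZero.iso ((IsZero.iff_id_eq_zero _).mpr (Sigma.hom_ext _ _ fun i => i.elim0)) (isZero_zero _)) hO

theorem isCoh_bsum [IsLocallyNoetherian X] : ∀ {l : List X.Modules}, (∀ S ∈ l, Coh.IsCoh S) →
    Coh.IsCoh (KS.bsum l)
  | [], _ => isCoh_zero
  | _ :: _, h => CohBasics.Closure.isCoh_biprod (h _ List.mem_cons_self)
      (isCoh_bsum fun S hS => h S (List.mem_cons_of_mem _ hS))

theorem isCoh_pow [IsLocallyNoetherian X] {M : X.Modules} (hM : Coh.IsCoh M) (n : ℕ) :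
    Coh.IsCoh (pow M n) :=
  CohBasics.Closure.isCoh_of_iso (KS.bsum_ofFn fun _ : Fin n => M).some (isCoh_bsum fun S hS => by
    obtain ⟨i, rfl⟩ := List.mem_ofFn.1 hS
    exact hM)

variable [IsProper p] [Algebra.IsAlgebraic k K]

theorem isZero_of_bc {E : X.Modules} (hE : Coh.IsCoh E) (h : IsZero (bcMod p K E)) : IsZero E := by
  haveI : IsLocallyNoetherian X := LocallyOfFiniteType.isLocallyNoetherian p
  haveI := (Scheme.Modules.pullbackPushforwardAdjunction (proj p K)).left_adjoint_additive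
  obtain ⟨e⟩ := iso_of_bc p K hE (isCoh_zero (X := X))
    (h.iso ((Scheme.Modules.pullback (proj p K)).map_isZero (isZero_zero _)))
  exact IsZero.of_iso (isZero_zero _) e

include p in
omit [Algebra.IsAlgebraic k K] in
theorem good_of_ind {E : X.Modules} (hE : Coh.IsCoh E) (hi : KS.Ind E) : KS.Good E := by
  letI : X.Over (Spec (CommRingCat.of k)) := ⟨p⟩
  haveI : IsProper (X ↘ Spec (CommRingCat.of k)) := ‹IsProper p›
  haveI := ArtinFun.HomFinite.finite_hom (k := k) hE hE
  exact KS.good_of_finite (k := k) hi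

include p in
omit [Algebra.IsAlgebraic k K] in
/-- Indecomposables with isomorphic powers are isomorphic. -/
theorem iso_of_pow_iso_pow {E E' : X.Modules} (hE : Coh.IsCoh E) (hE' : Coh.IsCoh E')
    (hi : KS.Ind E) (hi' : KS.Ind E') {r s : ℕ} (hs : 0 < s) (e : pow E s ≅ pow E' r) :
    Nonempty (E ≅ E') := by
  classical
  have hp := KS.decomposition_unique (l := List.ofFn fun _ : Fin s => E)
    (l' := List.ofFn fun _ : Fin r => E')
    (fun S hS => by obtain ⟨i, rfl⟩ := List.mem_ofFn.1 hS; exact good_of_ind p hE hi)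
    (fun S hS => by obtain ⟨i, rfl⟩ := List.mem_ofFn.1 hS; exact good_of_ind p hE' hi')
    ((KS.bsum_ofFn _).some ≪≫ e ≪≫ (KS.bsum_ofFn _).some.symm)
  have hmem : KS.cls E ∈ (List.ofFn fun _ : Fin r => E').map KS.cls :=
    hp.subset (List.mem_map.mpr ⟨E, List.mem_ofFn.mpr ⟨⟨0, hs⟩, rfl⟩, rfl⟩)
  obtain ⟨S, hS, hSE⟩ := List.mem_map.mp hmem
  obtain ⟨i, rfl⟩ := List.mem_ofFn.1 hS
  exact ⟨(Quotient.exact hSE : Nonempty (E' ≅ E)).some.symm⟩

/-- Indecomposables whose base changes are powers of the same module are isomorphic. -/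
theorem iso_of_isotypic {E E' : X.Modules} (hE : Coh.IsCoh E) (hE' : Coh.IsCoh E')
    (hi : KS.Ind E) (hi' : KS.Ind E') {W : (W4bk4gw11416.baseChange p K).Modules} {r s : ℕ}
    (e : bcMod p K E ≅ pow W r) (e' : bcMod p K E' ≅ pow W s) : Nonempty (E ≅ E') := by
  haveI : IsLocallyNoetherian X := LocallyOfFiniteType.isLocallyNoetherian p
  have hs : 0 < s := Nat.pos_of_ne_zero fun h => by
    subst h
    exact hi'.1 (isZero_of_bc p K hE' (IsZero.of_iso
      ((IsZero.iff_id_eq_zero _).mpr (Sigma.hom_ext _ _ fun i => i.elim0)) e'))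
  obtain ⟨φ⟩ := iso_of_bc p K (isCoh_pow hE s) (isCoh_pow hE' r)
    (bcPow p K E s ≪≫ Sigma.mapIso (fun _ => e) ≪≫ powPow W r s ≪≫
      (Sigma.mapIso (fun _ => e')).symm ≪≫ (bcPow p K E' r).symm)
  exact iso_of_pow_iso_pow p hE hE' hi hi' hs φ

end Groth.Agent.Lib.CohDelta.KBC
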