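import Groth.Prelude.Def_W4c1astiltbs12AS
import Groth.Prelude.Def_KLin
import Groth.Prelude.Def_Coh
import Groth.Agent.Lib.ZarCoh.FlatBC.PullbackSections
import Groth.Agent.Lib.HilbD.Content
import Groth.Agent.Lib.Modules.AffineHom
import Mathlib.LinearAlgebra.TensorProduct.Basis
import Mathlib.RingTheory.TensorProduct.Free

/-!
# Base change along a field extension: sections

For `X` over a field `k`, `K` a `k`-algebra with basis `b` and `π : X_K ⟶ X` the projection, the
sections of `π^* G` over the inverse image of an affine open `U` are uniquely `Σ b_i • π^*(m_i)`.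
-/

set_option autoImplicit false
set_option linter.style.haveILetI false
universe u v

open CategoryTheory CategoryTheory.Limits AlgebraicGeometry Opposite TopologicalSpace
open scoped TensorProduct

noncomputable section

namespace Groth.Agent.Lib.CohDelta.KBC

open W4c1astiltbs12 Groth.Agent.Lib
open Groth.Agent.Lib.TensorMod.Dual (rs rs_rs rs_smul)

variable {k : Type u} [Field k] {X : Scheme.{u}} (p : X ⟶ Spec (CommRingCat.of k))
  (K : Type u) [CommRing K] [Algebra k K]

instance isAffineHom_proj : IsAffineHom (proj p K) :=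
  MorphismProperty.pullback_fst _ _ inferInstance

/-- The image of `a ∈ K` in the functions on `π⁻¹U`. -/
def cU (U : X.Opens) (a : K) : Γ(W4bk4gw11416.baseChange p K, proj p K ⁻¹ᵁ U) :=
  (W4bk4gw11416.baseChange p K).presheaf.map (homOfLE le_top).op
    (Coh.toGlobal (W4bk4gw11416.baseChangeTo p K) a)

/-- The image of `a ∈ k` in the functions on `U`. -/
def c₀ (U : X.Opens) (a : k) : Γ(X, U) :=
  X.presheaf.map (homOfLE le_top).op (Coh.toGlobal p a)

theorem cU_res {U V : X.Opens} (h : V ≤ U) (a : K) :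
    (W4bk4gw11416.baseChange p K).presheaf.map
      (homOfLE (fun _ hx => h hx : proj p K ⁻¹ᵁ V ≤ proj p K ⁻¹ᵁ U)).op (cU p K U a) = cU p K V a := by
  rw [cU, cU, ← ConcreteCategory.comp_apply, ← Functor.map_comp]
  rfl

theorem cU_algebraMap (U : X.Opens) (a : k) :
    cU p K U (algebraMap k K a) = (proj p K).app U (c₀ p U a) := by
  have h1 : Coh.toGlobal (W4bk4gw11416.baseChangeTo p K) (algebraMap k K a) =
      (proj p K).appTop (Coh.toGlobal p a) := by
    have e1 : Coh.toGlobal (proj p K ≫ p) a = (proj p K).appTop (Coh.toGlobal p a) := rfl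
    rw [← e1, show proj p K ≫ p = W4bk4gw11416.baseChangeTo p K ≫
      Spec.map (CommRingCat.ofHom (algebraMap k K)) from pullback.condition]
    show (W4bk4gw11416.baseChangeTo p K).appTop.hom _ = (_ ≫ (W4bk4gw11416.baseChangeTo p K).appTop).hom _
    exact congrArg (W4bk4gw11416.baseChangeTo p K).appTop.hom (ConcreteCategory.congr_hom
      (Scheme.ΓSpecIso_inv_naturality (CommRingCat.ofHom (algebraMap k K))) a)
  rw [cU, h1, c₀]
  exact (ConcreteCategory.congr_hom ((proj p K).naturality (homOfLE (le_top : U ≤ ⊤)).op)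
    (Coh.toGlobal p a)).symm

/-- `Γ(π⁻¹U, O)` is `K ⊗ Γ(U, O)`. -/
theorem isPushout_sections {U : X.Opens} (hU : IsAffineOpen U) :
    IsPushout ((Scheme.ΓSpecIso (CommRingCat.of k)).inv ≫ p.appLE ⊤ U le_top)
      (CommRingCat.ofHom (algebraMap k K)) ((proj p K).app U)
      ((Scheme.ΓSpecIso (CommRingCat.of K)).inv ≫
        (W4bk4gw11416.baseChangeTo p K).appLE ⊤ (proj p K ⁻¹ᵁ U) le_top) := by
  have h := HilbD.Content.isPushout_appLE (π := Spec.map (CommRingCat.ofHom (algebraMap k K))) (g := p)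
    (g' := W4bk4gw11416.baseChangeTo p K) (π' := proj p K)
    (IsPullback.of_hasPullback p (Spec.map (CommRingCat.ofHom (algebraMap k K)))).flip
    ⟨⊤, isAffineOpen_top _⟩ ⟨U, hU⟩ le_top le_top
  refine IsPushout.of_iso h (Scheme.ΓSpecIso (CommRingCat.of k)) (Iso.refl _)
    (Scheme.ΓSpecIso (CommRingCat.of K)) (Iso.refl _) ?_ ?_ ?_ ?_
  · rw [Iso.refl_hom, Category.comp_id, Iso.hom_inv_id_assoc]
  · exact Scheme.ΓSpecIso_naturality _
  · simp
  · rw [Iso.refl_hom, Category.comp_id]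
    exact (Iso.hom_inv_id_assoc _ _).symm

variable {ι : Type v} (b : Module.Basis ι k K)

/-- A basis of `Γ(π⁻¹U, O)` over `Γ(U, O)`. -/
theorem exists_basis {U : X.Opens} (hU : IsAffineOpen U) :
    letI := ((proj p K).appLE U (proj p K ⁻¹ᵁ U) le_rfl).hom.toAlgebra
    ∃ B : Module.Basis ι Γ(X, U) Γ(W4bk4gw11416.baseChange p K, proj p K ⁻¹ᵁ U),
      ∀ i, B i = cU p K U (b i) := by
  let O := Γ(X, U)
  let O' := Γ(W4bk4gw11416.baseChange p K, proj p K ⁻¹ᵁ U)
  let f₁ := ((Scheme.ΓSpecIso (CommRingCat.of k)).inv ≫ p.appLE ⊤ U le_top)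
  let f₂ := ((Scheme.ΓSpecIso (CommRingCat.of K)).inv ≫
        (W4bk4gw11416.baseChangeTo p K).appLE ⊤ (proj p K ⁻¹ᵁ U) le_top)
  have hsq := isPushout_sections p K hU
  letI a1 : Algebra O O' := ((proj p K).appLE U (proj p K ⁻¹ᵁ U) le_rfl).hom.toAlgebra
  letI a2 : Algebra k O := f₁.hom.toAlgebra
  letI a3 : Algebra K O' := f₂.hom.toAlgebra
  letI a4 : Algebra k O' := ((algebraMap O O').comp (algebraMap k O)).toAlgebra
  haveI : IsScalarTower k O O' := IsScalarTower.of_algebraMap_eq fun _ => rfl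
  have hw : ((proj p K).app U).hom.comp f₁.hom = f₂.hom.comp (algebraMap k K) :=
    congrArg CommRingCat.Hom.hom hsq.w
  have happ : (proj p K).appLE U (proj p K ⁻¹ᵁ U) le_rfl = (proj p K).app U :=
    (Scheme.Hom.app_eq_appLE (f := proj p K) (U := U)).symm
  haveI : IsScalarTower k K O' := IsScalarTower.of_algebraMap_eq fun r => by
    show ((proj p K).appLE U (proj p K ⁻¹ᵁ U) le_rfl).hom (f₁.hom r) = f₂.hom (algebraMap k K r)
    rw [happ]
    exact DFunLike.congr_fun hw r
  have hP : IsPushout (CommRingCat.ofHom (algebraMap k O)) (CommRingCat.ofHom (algebraMap k K))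
      (CommRingCat.ofHom (algebraMap O O')) (CommRingCat.ofHom (algebraMap K O')) := by
    show IsPushout f₁ (CommRingCat.ofHom (algebraMap k K))
      ((proj p K).appLE U (proj p K ⁻¹ᵁ U) le_rfl) f₂
    rw [happ]
    exact hsq
  have hAlg : Algebra.IsPushout k O K O' := CommRingCat.isPushout_iff_isPushout.mp hP
  refine ⟨(b.baseChange O).map hAlg.out.equiv, fun i => ?_⟩
  rw [Module.Basis.map_apply, Module.Basis.baseChange_apply, IsBaseChange.equiv_tmul, one_smul]
  rfl

variable (G : X.Modules)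

/-- The unit on sections. -/
def η (U : X.Opens) : Γ(G, U) →+ Γ(bcMod p K G, proj p K ⁻¹ᵁ U) :=
  (((Scheme.Modules.pullbackPushforwardAdjunction (proj p K)).unit.app G).app U).hom

theorem η_smul (U : X.Opens) (r : Γ(X, U)) (m : Γ(G, U)) :
    η p K G U (r • m) = (proj p K).app U r • η p K G U m :=
  Scheme.Modules.Hom.app_smul _ _ _

theorem η_natural {F G : X.Modules} (h : F ⟶ G) (U : X.Opens) (m : Γ(F, U)) :
    ((Scheme.Modules.pullback (proj p K)).map h).app (proj p K ⁻¹ᵁ U) (η p K F U m) =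
      η p K G U (h.app U m) :=
  (ConcreteCategory.congr_hom (congrArg (fun φ => Scheme.Modules.Hom.app φ U)
    ((Scheme.Modules.pullbackPushforwardAdjunction (proj p K)).unit.naturality h)) m).symm

theorem η_res {U V : X.Opens} (h : V ≤ U) (m : Γ(G, U)) :
    rs (bcMod p K G) (fun _ hx => h hx : proj p K ⁻¹ᵁ V ≤ proj p K ⁻¹ᵁ U) (η p K G U m) =
      η p K G V (rs G h m) :=
  (((Scheme.Modules.pullbackPushforwardAdjunction (proj p K)).unit.app G).mapPresheaf.naturality_apply
    (homOfLE h).op m).symm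

/-- `v ↦ Σ b_i • π^* v_i`. -/
def Φ (U : X.Opens) (v : ι →₀ Γ(G, U)) : Γ(bcMod p K G, proj p K ⁻¹ᵁ U) :=
  v.sum fun i m => cU p K U (b i) • η p K G U m

theorem Φ_add (U : X.Opens) (v w : ι →₀ Γ(G, U)) :
    Φ p K b G U (v + w) = Φ p K b G U v + Φ p K b G U w :=
  Finsupp.sum_add_index' (fun i => by rw [map_zero, smul_zero])
    fun i m m' => by rw [map_add, smul_add]

open scoped Classical in
/-- Sections of `π^* G` over `π⁻¹U` are uniquely `Σ b_i • π^* m_i`. -/
theorem Φ_bijective [G.IsQuasicoherent] {U : X.Opens} (hU : IsAffineOpen U) :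
    Function.Bijective (Φ p K b G U) := by
  letI := ((proj p K).appLE U (proj p K ⁻¹ᵁ U) le_rfl).hom.toAlgebra
  obtain ⟨B, hB⟩ := exists_basis p K b hU
  let P := ZarCoh.FlatBC.PullbackSections.pbTensor (proj p K) G
    (le_rfl : proj p K ⁻¹ᵁ U ≤ proj p K ⁻¹ᵁ U)
  have hP : Function.Bijective P :=
    ZarCoh.FlatBC.PullbackSections.bijective_pbTensor (proj p K) G hU (hU.preimage _) le_rfl
  let E := (TensorProduct.equivFinsuppOfBasisLeft (N := Γ(G, U)) B).symm
  have e : Φ p K b G U = P ∘ E := by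
    funext v
    have h1 : E v = Finsupp.sum v fun i m => B i ⊗ₜ[Γ(X, U)] m := by
      show (TensorProduct.equivFinsuppOfBasisLeft (N := Γ(G, U)) B).symm.toLinearMap v = _
      rw [TensorProduct.equivFinsuppOfBasisLeft_symm, Finsupp.lsum_apply]
      rfl
    rw [Function.comp_apply, h1, map_finsuppSum]
    refine Finsupp.sum_congr fun i _ => ?_
    rw [ZarCoh.FlatBC.PullbackSections.pbTensor_tmul, hB]
    congr 1
    exact (TensorMod.Dual.rs_self (bcMod p K G) le_rfl _).symm
  rw [e]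
  exact hP.comp E.bijective

theorem Φ_smul (U : X.Opens) (r : Γ(X, U)) (v : ι →₀ Γ(G, U)) :
    Φ p K b G U (r • v) = (proj p K).app U r • Φ p K b G U v := by
  rw [Φ, Finsupp.sum_smul_index' (fun i => by rw [map_zero, smul_zero]), Φ, Finsupp.smul_sum]
  refine Finsupp.sum_congr fun i _ => ?_
  rw [η_smul, smul_comm]

theorem Φ_res {U V : X.Opens} (h : V ≤ U) (v : ι →₀ Γ(G, U)) :
    rs (bcMod p K G) (fun _ hx => h hx : proj p K ⁻¹ᵁ V ≤ proj p K ⁻¹ᵁ U) (Φ p K b G U v) =
      Φ p K b G V (v.mapRange (rs G h) (Modules.TensorSec.rs_zero G h)) := by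
  rw [Φ, Φ, Finsupp.sum_mapRange_index fun i => by rw [map_zero, smul_zero]]
  refine (map_finsuppSum ((bcMod p K G).presheaf.map
    (homOfLE (fun _ hx => h hx : proj p K ⁻¹ᵁ V ≤ proj p K ⁻¹ᵁ U)).op).hom v _).trans ?_
  refine Finsupp.sum_congr fun i _ => ?_
  show rs (bcMod p K G) _ (cU p K U (b i) • η p K G U (v i)) = _
  rw [rs_smul, η_res]
  congr 1
  exact cU_res p K h (b i)

end Groth.Agent.Lib.CohDelta.KBC
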