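import Groth.Agent.Lib.CohDelta.KBC.Powers
import Groth.Agent.Lib.CurveBundle.GP
import Groth.Agent.Lib.CurveBundle.Twist
import Groth.Agent.Lib.Modules.Free
import Mathlib.AlgebraicGeometry.Geometrically.Integral
import Mathlib.RingTheory.SimpleRing.Basic

/-!
# Endomorphisms of rank one isotypical modules

Two-sided ideals of `End E` descend from those of the matrix ring `End (L^r)`.
-/

set_option autoImplicit false
set_option linter.style.haveILetI false
universe u v

open CategoryTheory CategoryTheory.Limits AlgebraicGeometry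

noncomputable section

namespace Groth.Agent.Lib.CohDelta.KBC

open W4c1astiltbs12 Groth.Agent.Lib Groth.Agent.Lib.CurveBundle
open Groth.Agent.Lib.TensorMod.Basic

/-- Endomorphisms of an invertible module on a proper variety are scalars. -/
theorem end_scalar {Y : Scheme.{u}} (K : Type u) [Field K] [IsAlgClosed K]
    [Y.Over (Spec (CommRingCat.of K))] [IsProper (Y ↘ Spec (CommRingCat.of K))] [IsIntegral Y]
    {L : Y.Modules} (hL : PicF.IsInvertible L) (f : L ⟶ L) : ∃ c : K, f = c • 𝟙 L := by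
  haveI : (tensorBy L).IsEquivalence := CurveBundle.Twist.isEquivalence hL
  let u : (tensorBy L).obj (Coh.structureModule Y) ≅ L := leftUnit L
  obtain ⟨ψ, hψ⟩ := (tensorBy L).map_surjective (u.hom ≫ f ≫ u.inv)
  let r : Γ(Y, ⊤) := ψ.app ⊤ (1 : Γ(Y, ⊤))
  have e1 : ψ = EndAlg.scal (Coh.structureModule Y) r := Modules.Free.unitHom_ext (by
    rw [EndAlg.scal_app]
    have h1 : (Y.presheaf.map (homOfLE (le_top (a := (⊤ : Y.Opens)))).op r : Γ(Y, ⊤)) = r := by
      simp
    rw [h1]
    exact (mul_one r).symm)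
  obtain ⟨c, hc⟩ := EndAlg.cst_surjective K r
  refine ⟨c, ?_⟩
  have e2 : u.hom ≫ f ≫ u.inv = EndAlg.scal _ r :=
    hψ.symm.trans ((congrArg (tensorBy L).map e1).trans (GP.tmap_scal _ L r))
  have e3 : f = EndAlg.scal L r := by
    rw [← cancel_epi u.hom, ← cancel_mono u.inv, Category.assoc, e2,
      ← EndAlg.scal_comm u.hom, Category.assoc, u.hom_inv_id, Category.comp_id]
  rw [e3, ← hc, KLin.smul_id]
  rfl

/-- A nonzero endomorphism of a power of a `K`-scalar object generates the unit ideal. -/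
theorem exists_sum_one {C : Type*} [Category C] [Abelian C] {K : Type*} [Field K] [Linear K C]
    {L M : C} {r : ℕ} (φ : M ≅ ∐ fun _ : Fin r => L) (hend : ∀ f : L ⟶ L, ∃ c : K, f = c • 𝟙 L)
    {x : M ⟶ M} (hx : x ≠ 0) : ∃ u w : Fin r → (M ⟶ M), ∑ c, u c ≫ x ≫ w c = 𝟙 M := by
  classical
  let π' : Fin r → ((∐ fun _ : Fin r => L) ⟶ L) := fun b =>
    Sigma.desc fun j => if j = b then 𝟙 L else 0
  let ι' : Fin r → (L ⟶ ∐ fun _ : Fin r => L) := Sigma.ι fun _ : Fin r => L
  have hid : ∑ b, π' b ≫ ι' b = 𝟙 _ := Sigma.hom_ext _ _ fun a => by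
    rw [Preadditive.comp_sum, Category.comp_id]
    refine (Finset.sum_eq_single a (fun b _ hb => ?_) fun h => absurd (Finset.mem_univ a) h).trans ?_
    · simp [π', Ne.symm hb]
    · simp [π', ι']
  let x' := φ.inv ≫ x ≫ φ.hom
  have hex : ∃ a b, ι' a ≫ x' ≫ π' b ≠ 0 := by
    by_contra! h
    refine hx ?_
    have h' : x' = 0 := Sigma.hom_ext _ _ fun a => by
      rw [← Category.comp_id x', ← hid, Preadditive.comp_sum, Preadditive.comp_sum, Limits.comp_zero]
      exact Finset.sum_eq_zero fun b _ => by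
        have := h a b
        rw [← Category.assoc, ← Category.assoc, Category.assoc (ι' a), this, Limits.zero_comp]
    have h2 : x = φ.hom ≫ x' ≫ φ.inv := by simp [x']
    rw [h2, h', Limits.zero_comp, Limits.comp_zero]
  obtain ⟨a, b, hab⟩ := hex
  obtain ⟨c₀, hc₀⟩ := hend (ι' a ≫ x' ≫ π' b)
  have hc0 : c₀ ≠ 0 := fun h => hab (by rw [hc₀, h, zero_smul])
  refine ⟨fun c => c₀⁻¹ • (φ.hom ≫ π' c ≫ ι' a ≫ φ.inv), fun c => φ.hom ≫ π' b ≫ ι' c ≫ φ.inv, ?_⟩
  have key : ∀ c, (c₀⁻¹ • (φ.hom ≫ π' c ≫ ι' a ≫ φ.inv)) ≫ x ≫ φ.hom ≫ π' b ≫ ι' c ≫ φ.inv =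
      φ.hom ≫ (π' c ≫ ι' c) ≫ φ.inv := fun c => by
    rw [Linear.smul_comp]
    have e : (φ.hom ≫ π' c ≫ ι' a ≫ φ.inv) ≫ x ≫ φ.hom ≫ π' b ≫ ι' c ≫ φ.inv =
        φ.hom ≫ π' c ≫ (ι' a ≫ x' ≫ π' b) ≫ ι' c ≫ φ.inv := by simp [x']
    rw [e, hc₀]
    simp [smul_smul, inv_mul_cancel₀ hc0]
  rw [Finset.sum_congr rfl fun c _ => key c]
  simp only [← Preadditive.comp_sum, ← Preadditive.sum_comp, hid]
  simp

variable {k : Type u} [Field k] {X : Scheme.{u}} (p : X ⟶ Spec (CommRingCat.of k)) [IsProper p]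
  [GeometricallyIntegral p] (K : Type u) [Field K] [Algebra k K] [IsAlgClosure k K]

attribute [local instance] overK

/-- A nonzero endomorphism of a rank one isotypical module generates the unit ideal. -/
theorem one_mem_of_ne_zero {E : X.Modules} (hE : FlatMod.IsFinLocFree E)
    {L : (W4bk4gw11416.baseChange p K).Modules} (hL : PicF.IsInvertible L) {r : ℕ}
    (φ : bcMod p K E ≅ pow L r) (S : AddSubmonoid (E ⟶ E))
    (hS : ∀ g h x, x ∈ S → g ≫ x ≫ h ∈ S) {e : E ⟶ E} (he : e ∈ S) (he0 : e ≠ 0) : 𝟙 E ∈ S := by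
  classical
  letI : X.Over (Spec (CommRingCat.of k)) := ⟨p⟩
  haveI : IsAlgClosed K := IsAlgClosure.isAlgClosed k
  haveI : IsLocallyNoetherian X := LocallyOfFiniteType.isLocallyNoetherian p
  haveI : CompactSpace X := QuasiCompact.compactSpace_of_compactSpace p
  haveI : IsProper (W4bk4gw11416.baseChange p K ↘ Spec (CommRingCat.of K)) :=
    inferInstanceAs (IsProper (pullback.snd _ _))
  haveI : IsIntegral (W4bk4gw11416.baseChange p K) :=
    GeometricallyIntegral.isIntegral_of_subsingleton (pullback.snd p _)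
  haveI := (Scheme.Modules.pullbackPushforwardAdjunction (proj p K)).left_adjoint_additive
  have hEc : Coh.IsCoh E := Perfect.Coherent.isCoh_of_isFinLocFree hE
  haveI : E.IsQuasicoherent := hEc.1
  let b := Module.Basis.ofVectorSpace k K
  -- `S` is stable under scalars
  have hsmul : ∀ (a : k) (s : E ⟶ E), s ∈ S → a • s ∈ S := fun a s hs => by
    have h := hS (a • 𝟙 E) (𝟙 E) s hs
    rwa [Category.comp_id, Linear.smul_comp, Category.id_comp] at h
  -- combinations of pullbacks with coefficients in `S`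
  let P : (bcMod p K E ⟶ bcMod p K E) → Prop := fun ψ =>
    ∃ v : _ →₀ (E ⟶ E), (∀ i, v i ∈ S) ∧ ψ = v.sum fun i s => b i • pbMap p K s
  have h0 : ∀ i, b i • pbMap p K (0 : E ⟶ E) = 0 := fun i => by
    rw [show pbMap p K (0 : E ⟶ E) = 0 from Functor.map_zero _ _ _, smul_zero]
  have hadd : ∀ i (s t : E ⟶ E),
      b i • pbMap p K (s + t) = b i • pbMap p K s + b i • pbMap p K t := fun i s t => by
    rw [show pbMap p K (s + t) = pbMap p K s + pbMap p K t from Functor.map_add _, smul_add]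
  have hP1 : P 0 := ⟨0, fun i => S.zero_mem, by simp⟩
  have hP2 : ∀ ψ ψ', P ψ → P ψ' → P (ψ + ψ') := fun ψ ψ' ⟨v, hv, e⟩ ⟨v', hv', e'⟩ =>
    ⟨v + v', fun i => S.add_mem (hv i) (hv' i), by
      rw [e, e', Finsupp.sum_add_index' h0 hadd]⟩
  have hP3 : ∀ (c : K) s, s ∈ S → P (c • pbMap p K s) := fun c s hs =>
    ⟨(b.repr c).mapRange (fun a => a • s) (zero_smul k s), fun i => by
      rw [Finsupp.mapRange_apply]
      exact hsmul _ _ hs, by
      rw [Finsupp.sum_mapRange_index h0]
      conv_lhs => rw [← b.linearCombination_repr c, Finsupp.linearCombination_apply, Finsupp.sum,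
        Finset.sum_smul]
      refine Finset.sum_congr rfl fun i _ => ?_
      dsimp only
      rw [pbMap_smul p K rfl, smul_smul, Algebra.smul_def, mul_comm]⟩
  -- the unit is such a combination
  have hx : pbMap p K e ≠ 0 := fun h => he0 (eq_zero_of_sum_eq_zero' p K (κ := PUnit.{u+1})
    (e := fun _ => (1 : K)) ((linearIndependent_unique_iff (R := k)).mpr one_ne_zero) (fun _ => e)
    (by simpa using h) PUnit.unit)
  obtain ⟨u, w, huw⟩ := exists_sum_one φ (fun f => end_scalar K hL f) hx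
  have h1 : P (𝟙 (bcMod p K E)) := by
    rw [← huw]
    refine Finset.sum_induction _ P hP2 hP1 fun c _ => ?_
    obtain ⟨T, g, hg⟩ := exists_sum p K b hEc (u c)
    obtain ⟨T', g', hg'⟩ := exists_sum p K b hEc (w c)
    rw [hg, hg', Preadditive.comp_sum, Preadditive.sum_comp]
    refine Finset.sum_induction _ P hP2 hP1 fun i _ => ?_
    rw [Preadditive.comp_sum]
    refine Finset.sum_induction _ P hP2 hP1 fun j _ => ?_
    rw [Linear.comp_smul, Linear.comp_smul, Linear.smul_comp, smul_smul,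
      show pbMap p K (g i) ≫ pbMap p K e ≫ pbMap p K (g' j) = pbMap p K (g i ≫ e ≫ g' j) by
        rw [pbMap, pbMap, pbMap, pbMap, Functor.map_comp, Functor.map_comp]]
    exact hP3 _ _ (hS _ _ _ he)
  obtain ⟨v, hv, hv1⟩ := h1
  let d := (b.repr (1 : K)).mapRange (fun a : k => a • 𝟙 E) (zero_smul k _)
  have hd : d.sum (fun i s => b i • pbMap p K s) = 𝟙 (bcMod p K E) := by
    rw [Finsupp.sum_mapRange_index h0]
    conv_rhs => rw [← one_smul K (𝟙 (bcMod p K E)), ← b.linearCombination_repr (1 : K),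
      Finsupp.linearCombination_apply, Finsupp.sum, Finset.sum_smul]
    refine Finset.sum_congr rfl fun i _ => ?_
    dsimp only
    rw [pbMap_smul p K rfl, smul_smul, Algebra.smul_def, mul_comm,
      show pbMap p K (𝟙 E) = 𝟙 _ from CategoryTheory.Functor.map_id _ _]
  have hvd : v = d := Finsupp.ext fun i => by
    have hz : (v - d).sum (fun i s => b i • pbMap p K s) = 0 := by
      rw [Finsupp.sum_sub_index, ← hv1, hd, sub_self]
      intro i s t
      rw [show pbMap p K (s - t) = pbMap p K s - pbMap p K t from Functor.map_sub _, smul_sub]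
    by_contra hne
    refine hne (sub_eq_zero.mp ?_)
    exact eq_zero_of_sum_eq_zero p K b (v - d).support (v - d) hz i
      (Finsupp.mem_support_iff.mpr (sub_ne_zero.mpr hne))
  have hr : b.repr (1 : K) ≠ 0 := fun h => one_ne_zero (b.repr.map_eq_zero_iff.mp h)
  obtain ⟨i, hi⟩ := Finsupp.ne_iff.mp hr
  have hmem := hsmul ((b.repr (1 : K) i)⁻¹) _ (hv i)
  rw [hvd, Finsupp.mapRange_apply, smul_smul, inv_mul_cancel₀ hi, one_smul] at hmem
  exact hmem

end Groth.Agent.Lib.CohDelta.KBC
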